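import Mathlib

/-!
# THEOREM BETA-FF(3) (#20155, helper98), part 1: the module `V` (pure form)

`H` acts on the elementary abelian 2-group `V`; letters `ι`; `z c` (`c : ι`) span `L`, the only relation is `∑ z c = 0`;
`w c` : `L + ⟨w c⟩ = LL_c`; `Lam x y` = the elements of the `Λ^g` over the transposition `(x y)`; `WS x y` = the elements
of the `W^g` which induce `(x y)`.  Main result `Core.exists_alpha`: there is `α : V → F₂^ι` with kernel `L` and
`λ • v = v + α_x(v) z_x + α_y(v) z_y` for `λ ∈ Lam x y`; `α (w c) = e_c`.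
-/

set_option autoImplicit false
set_option linter.unusedSectionVars false
set_option linter.overlappingInstances false

namespace Cfsg.Agent.Omega.NO3S.BetaFF.SymBad

open scoped Classical

variable {H V ι : Type*} [Group H] [AddCommGroup V] [Module (ZMod 2) V] [DistribMulAction H V] [Fintype ι]

/-- The bad facts in the module `V`. -/
structure Core (P : Subgroup H) (z w : ι → V) (Lam WS : ι → ι → Set H) (σ : H → Equiv.Perm ι) : Prop where
  card : 5 ≤ Fintype.card ι
  zsum : ∑ c, z c = 0
  zind : ∀ C : Finset ι, ∑ c ∈ C, z c = 0 → C = ∅ ∨ C = Finset.univ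
  /-- no transvections -/
  notv : ∀ h ∈ P, ∀ r : V, (∀ v : V, h • v = v ∨ h • v = v + r) → ∀ v : V, h • v = v
  /-- `P` permutes the letters -/
  perm : ∀ p ∈ P, ∀ c, p • z c = z (σ p c)
  /-- `C_P(L)` acts on `⟨w c, L⟩` with `[w c, h] ≤ ⟨z c⟩` -/
  cent : ∀ h ∈ P, (∀ c, h • z c = z c) → ∀ c, h • w c = w c ∨ h • w c = w c + z c
  lamP : ∀ x y, ∀ l ∈ Lam x y, l ∈ P
  lamNe : ∀ x y, x ≠ y → ∃ l, l ∈ Lam x y
  lam_symm : ∀ x y, ∀ l ∈ Lam x y, l ∈ Lam y x
  lam_z : ∀ x y, ∀ l ∈ Lam x y, ∀ c, l • z c = z c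
  lam_w : ∀ x y, ∀ l ∈ Lam x y, ∀ c, c ≠ x → c ≠ y → l • w c = w c
  lam_wx : ∀ x y, ∀ l ∈ Lam x y, l • w x = w x + z x
  lam_wy : ∀ x y, ∀ l ∈ Lam x y, l • w y = w y + z y
  lam_im : ∀ x y, ∀ l ∈ Lam x y, ∀ v : V, ∃ a b : ZMod 2, l • v = v + (a • z x + b • z y)
  wsP : ∀ x y, ∀ s ∈ WS x y, s ∈ P
  wsNe : ∀ x y, x ≠ y → ∃ s, s ∈ WS x y
  ws_symm : ∀ x y, ∀ s ∈ WS x y, s ∈ WS y x
  ws_conj : ∀ p ∈ P, ∀ x y, ∀ s ∈ WS x y, p * s * p⁻¹ ∈ WS (σ p x) (σ p y)
  ws_z : ∀ x y, x ≠ y → ∀ s ∈ WS x y, ∀ c, s • z c = z (Equiv.swap x y c)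
  ws_sq : ∀ x y, ∀ s ∈ WS x y, ∀ v : V, s • s • v = v
  ws_w : ∀ x y, x ≠ y → ∀ s ∈ WS x y, ∀ c, c ≠ x → c ≠ y → s • w c = w c ∨ s • w c = w c + (z x + z y)
  ws_wx : ∀ x y, x ≠ y → ∀ s ∈ WS x y, ∃ l ∈ Submodule.span (ZMod 2) (Set.range z), s • w x = w y + l
  /-- `[C_V(Λ), W] ≤ ⟨r⟩` -/
  ws_cv : ∀ x y, x ≠ y → ∀ s ∈ WS x y, ∀ v : V, (∀ l ∈ Lam x y, l • v = v) →
    s • v = v ∨ s • v = v + (z x + z y)
  /-- `[V, W] ≤ U` -/
  ws_U : ∀ x y, x ≠ y → ∀ s ∈ WS x y, ∀ v : V, ∃ u ∈ Submodule.span (ZMod 2) (Set.range z ∪ Set.range w),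
    s • v = v + u
  fix0 : ∀ v : V, (∀ x y, x ≠ y → ∀ s ∈ WS x y, s • v = v) → v = 0

namespace Core

variable {P : Subgroup H} {z w : ι → V} {Lam WS : ι → ι → Set H} {σ : H → Equiv.Perm ι}

theorem add_self (v : V) : v + v = 0 := by
  have h1 : (1 : ZMod 2) • v + (1 : ZMod 2) • v = ((1 : ZMod 2) + 1) • v := (add_smul _ _ _).symm
  have h2 : (1 : ZMod 2) + 1 = 0 := by decide
  rw [h2, zero_smul, one_smul] at h1
  exact h1

theorem neg_eq (v : V) : -v = v := neg_eq_of_add_eq_zero_left (add_self v)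

theorem sub_eq (u v : V) : u - v = u + v := by rw [sub_eq_add_neg, neg_eq]

theorem zm (a : ZMod 2) : a = 0 ∨ a = 1 := by revert a; decide

theorem smul_zm (h : H) (a : ZMod 2) (v : V) : h • (a • v) = a • (h • v) := by
  rcases zm a with rfl | rfl
  · simp
  · simp

/-- `L` -/
abbrev LL (z : ι → V) : Submodule (ZMod 2) V := Submodule.span (ZMod 2) (Set.range z)

/-- `U` -/
abbrev UU (z w : ι → V) : Submodule (ZMod 2) V := Submodule.span (ZMod 2) (Set.range z ∪ Set.range w)

omit [Fintype ι] in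
theorem z_mem (c : ι) : z c ∈ LL z := Submodule.subset_span ⟨c, rfl⟩

omit [Fintype ι] in
theorem LL_le_UU : LL z ≤ UU z w := Submodule.span_mono Set.subset_union_left

omit [Fintype ι] in
theorem w_mem (c : ι) : w c ∈ UU z w := Submodule.subset_span (Or.inr ⟨c, rfl⟩)

/-- an element fixing a spanning set fixes the span -/
theorem fix_span {h : H} {X : Set V} (hx : ∀ v ∈ X, h • v = v) {v : V} (hv : v ∈ Submodule.span (ZMod 2) X) :
    h • v = v := by
  induction hv using Submodule.span_induction with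
  | mem v hv => exact hx v hv
  | zero => exact smul_zero h
  | add u v _ _ hu hv => rw [smul_add, hu, hv]
  | smul a v _ hv => rw [smul_zm, hv]

variable (K : Core P z w Lam WS σ)
include K

/-- linear independence in function form -/
theorem const_of_sum {f : ι → ZMod 2} (h : ∑ c, f c • z c = 0) : ∀ c d, f c = f d := by
  have h1 : ∑ c ∈ Finset.univ.filter (fun c => f c = 1), z c = 0 := by
    rw [Finset.sum_filter]
    refine Eq.trans (Finset.sum_congr rfl fun c _ => ?_) h
    rcases zm (f c) with h2 | h2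
    · simp [h2]
    · simp [h2]
  have key : (∀ c, f c = 0) ∨ (∀ c, f c = 1) := by
    rcases K.zind _ h1 with h2 | h2
    · left
      intro c
      rcases zm (f c) with h3 | h3
      · exact h3
      · have : c ∈ Finset.univ.filter (fun c => f c = 1) := by simp [h3]
        rw [h2] at this
        exact absurd this (Finset.notMem_empty c)
    · right
      intro c
      have : c ∈ Finset.univ.filter (fun c => f c = 1) := by rw [h2]; simp
      simpa using this
  intro c d
  rcases key with h2 | h2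
  · rw [h2, h2]
  · rw [h2, h2]

/-- every element of `L` is `∑ f_c z_c` -/
theorem exists_coef {l : V} (hl : l ∈ LL z) : ∃ f : ι → ZMod 2, l = ∑ c, f c • z c := by
  induction hl using Submodule.span_induction with
  | mem v hv =>
    obtain ⟨c, rfl⟩ := hv
    refine ⟨Pi.single c 1, ?_⟩
    rw [Finset.sum_eq_single c]
    · simp
    · intro d _ hd
      rw [Pi.single_eq_of_ne hd, zero_smul]
    · intro h; exact absurd (Finset.mem_univ c) h
  | zero => exact ⟨0, by simp⟩
  | add u v _ _ hu hv =>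
    obtain ⟨f, rfl⟩ := hu
    obtain ⟨g, rfl⟩ := hv
    exact ⟨f + g, by rw [← Finset.sum_add_distrib]; exact Finset.sum_congr rfl fun c _ => (add_smul _ _ _).symm⟩
  | smul a v _ hv =>
    obtain ⟨f, rfl⟩ := hv
    exact ⟨a • f, by rw [Finset.smul_sum]; exact Finset.sum_congr rfl fun c _ => by rw [Pi.smul_apply, smul_assoc]⟩

omit K in
theorem exists_third (hc : 5 ≤ Fintype.card ι) (x y u : ι) : ∃ c, c ≠ x ∧ c ≠ y ∧ c ≠ u := by
  by_contra hcon
  push Not at hcon
  have h1 : (Finset.univ : Finset ι) ⊆ {x, y, u} := by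
    intro c _
    simp only [Finset.mem_insert, Finset.mem_singleton]
    by_contra h2
    push Not at h2
    exact h2.2.2 (hcon c h2.1 h2.2.1)
  have h2 := Finset.card_le_card h1
  rw [Finset.card_univ] at h2
  have h3 : ({x, y, u} : Finset ι).card ≤ 3 := Finset.card_le_three
  omega

/-- independence of three `z` -/
theorem ind3 {x y u : ι} (hxy : x ≠ y) (hxu : x ≠ u) (hyu : y ≠ u) {a b c : ZMod 2}
    (h : a • z x + b • z y + c • z u = 0) : a = 0 ∧ b = 0 ∧ c = 0 := by
  obtain ⟨d, hdx, hdy, hdu⟩ := exists_third K.card x y u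
  set f : ι → ZMod 2 := fun e => if e = x then a else if e = y then b else if e = u then c else 0 with hf
  have h1 : ∑ e, f e • z e = 0 := by
    have h2 : ∑ e, f e • z e = ∑ e ∈ ({x, y, u} : Finset ι), f e • z e := by
      symm
      refine Finset.sum_subset (Finset.subset_univ _) fun e _ he => ?_
      simp only [Finset.mem_insert, Finset.mem_singleton, not_or] at he
      simp [hf, he.1, he.2.1, he.2.2]
    rw [h2, Finset.sum_insert, Finset.sum_insert, Finset.sum_singleton]
    · simp only [hf, if_true, if_neg hxy.symm, if_neg hxu.symm, if_neg hyu.symm]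
      rw [← add_assoc]; exact h
    · simpa using hyu
    · simp [hxy, hxu]
  have h2 := K.const_of_sum h1
  have h0 : f d = 0 := by simp [hf, hdx, hdy, hdu]
  have hx := h2 x d
  have hy := h2 y d
  have hu := h2 u d
  rw [h0] at hx hy hu
  refine ⟨by simpa [hf] using hx, by simpa [hf, hxy.symm] using hy, by simpa [hf, hxu.symm, hyu.symm] using hu⟩

theorem ind2 {x y : ι} (hxy : x ≠ y) {a b : ZMod 2} (h : a • z x + b • z y = 0) : a = 0 ∧ b = 0 := by
  obtain ⟨d, hdx, hdy, -⟩ := exists_third K.card x y y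
  have := K.ind3 (u := d) hxy hdx.symm hdy.symm (a := a) (b := b) (c := 0) (by rw [zero_smul, add_zero]; exact h)
  exact ⟨this.1, this.2.1⟩

theorem z_ne (x : ι) : z x ≠ 0 := by
  intro h
  obtain ⟨d, hd, -, -⟩ := exists_third K.card x x x
  have := K.ind2 (x := x) (y := d) hd.symm (a := 1) (b := 0) (by rw [h]; simp)
  exact one_ne_zero this.1

theorem r_ne {x y : ι} (hxy : x ≠ y) : z x + z y ≠ 0 := by
  intro h
  have := K.ind2 hxy (a := 1) (b := 1) (by rw [one_smul, one_smul]; exact h)
  exact one_ne_zero this.1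

/-- `s` acts on `L` as a transvection -/
theorem ws_L {x y : ι} (hxy : x ≠ y) {s : H} (hs : s ∈ WS x y) {l : V} (hl : l ∈ LL z) :
    s • l = l ∨ s • l = l + (z x + z y) := by
  induction hl using Submodule.span_induction with
  | mem v hv =>
    obtain ⟨c, rfl⟩ := hv
    rw [K.ws_z x y hxy s hs]
    by_cases h1 : c = x
    · subst h1
      right
      rw [Equiv.swap_apply_left, ← add_assoc, add_self, zero_add]
    · by_cases h2 : c = y
      · subst h2
        right
        rw [Equiv.swap_apply_right, add_comm (z x), ← add_assoc, add_self, zero_add]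
      · left
        rw [Equiv.swap_apply_of_ne_of_ne h1 h2]
  | zero => left; exact smul_zero s
  | add u v _ _ hu hv =>
    rw [smul_add]
    rcases hu with hu | hu <;> rcases hv with hv | hv <;> rw [hu, hv]
    · left; rfl
    · right; abel
    · right; abel
    · left
      have : u + (z x + z y) + (v + (z x + z y)) = u + v + ((z x + z y) + (z x + z y)) := by abel
      rw [this, add_self, add_zero]
  | smul a v _ hv =>
    rcases zm a with rfl | rfl
    · left; simp
    · simpa using hv

theorem lam_L {x y : ι} {l : H} (hl : l ∈ Lam x y) {v : V} (hv : v ∈ LL z) : l • v = v :=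
  fix_span (by rintro _ ⟨c, rfl⟩; exact K.lam_z x y l hl c) hv

/-- **(3)**: an element of `P` which centralises `U` and `V / L` is trivial on `V`. -/
theorem triv {h : H} (hP : h ∈ P) (hU : ∀ u ∈ UU z w, h • u = u) (hL : ∀ v : V, h • v + v ∈ LL z) :
    ∀ v : V, h • v = v := by
  by_contra hcon
  push Not at hcon
  obtain ⟨v, hv⟩ := hcon
  set φ : V → V := fun v => h • v + v with hφ
  have hφv : ∀ v : V, h • v = v + φ v := by
    intro v
    rw [hφ]
    show h • v = v + (h • v + v)
    rw [add_comm (h • v), ← add_assoc, add_self, zero_add]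
  have hne : φ v ≠ 0 := by
    intro h0
    apply hv
    rw [hφv, h0, add_zero]
  -- some `s` moves `φ v`
  obtain ⟨x, y, hxy, s, hs, hsv⟩ : ∃ x y, x ≠ y ∧ ∃ s ∈ WS x y, s • φ v ≠ φ v := by
    by_contra h1
    push Not at h1
    exact hne (K.fix0 _ fun x y hxy s hs => h1 x y hxy s hs)
  have hsP := K.wsP x y s hs
  have hh : ∀ v : V, h • h • v = v := by
    intro v
    rw [hφv v, smul_add, hφv v, hU _ (LL_le_UU (hL v)), add_assoc, add_self, add_zero]
  have hinv : ∀ v : V, h⁻¹ • v = h • v := by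
    intro v
    have := hh (h⁻¹ • v)
    rw [smul_inv_smul] at this
    exact this.symm
  have hsinv : ∀ v : V, s⁻¹ • v = s • v := by
    intro v
    have := K.ws_sq x y s hs (s⁻¹ • v)
    rw [smul_inv_smul] at this
    exact this.symm
  have hcomm : ∀ v : V, (h * s * h⁻¹ * s⁻¹) • v = v + (φ v + s • φ v) := by
    intro v
    obtain ⟨u, hu, hu2⟩ := K.ws_U x y hxy s hs v
    have hsu : s • (v + u) = v := by rw [← hu2]; exact K.ws_sq x y s hs v
    rw [mul_smul, mul_smul, mul_smul, hsinv, hinv, hu2]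
    have e1 : h • (v + u) = (v + u) + φ v := by rw [smul_add, hU u hu, hφv]; abel
    rw [e1, smul_add, hsu, smul_add, hφv v]
    have e2 : h • s • φ v = s • φ v := by
      apply hU
      apply LL_le_UU
      rcases K.ws_L hxy hs (hL v) with h3 | h3
      · show s • (h • v + v) ∈ _
        rw [h3]; exact hL v
      · show s • (h • v + v) ∈ _
        rw [h3]; exact add_mem (hL v) (add_mem (z_mem x) (z_mem y))
    rw [e2]
    abel
  have hP' : h * s * h⁻¹ * s⁻¹ ∈ P := mul_mem (mul_mem (mul_mem hP hsP) (inv_mem hP)) (inv_mem hsP)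
  have htv := K.notv _ hP' (z x + z y) (by
    intro v
    rw [hcomm]
    rcases K.ws_L hxy hs (hL v) with h3 | h3
    · left
      have : s • φ v = φ v := h3
      rw [this, add_self, add_zero]
    · right
      have : s • φ v = φ v + (z x + z y) := h3
      rw [this, ← add_assoc (φ v), add_self, zero_add])
  have h4 := htv v
  rw [hcomm] at h4
  have h5 : φ v + s • φ v = 0 := by
    have := add_left_cancel (h4.trans (add_zero v).symm)
    exact this
  apply hsv
  have := eq_neg_of_add_eq_zero_right h5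
  rw [this, neg_eq]

/-! ### `α` -/

theorem lam_sq {x y : ι} {l : H} (hl : l ∈ Lam x y) (v : V) : l • l • v = v := by
  obtain ⟨a, b, h1⟩ := K.lam_im x y l hl v
  rw [h1, smul_add, h1, K.lam_L hl, add_assoc, add_self, add_zero]
  exact add_mem (Submodule.smul_mem _ _ (z_mem x)) (Submodule.smul_mem _ _ (z_mem y))

theorem lam_mem {x y : ι} {l : H} (hl : l ∈ Lam x y) (v : V) : l • v + v ∈ LL z := by
  obtain ⟨a, b, h1⟩ := K.lam_im x y l hl v
  rw [h1]
  have : v + (a • z x + b • z y) + v = a • z x + b • z y := by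
    have e : v + (a • z x + b • z y) + v = (v + v) + (a • z x + b • z y) := by abel
    rw [e, add_self, zero_add]
  rw [this]
  exact add_mem (Submodule.smul_mem _ _ (z_mem x)) (Submodule.smul_mem _ _ (z_mem y))

/-- to be trivial on `U` it is enough to fix the `z` and the `w` -/
theorem fixU {h : H} (hz : ∀ c, h • z c = z c) (hw : ∀ c, h • w c = w c) {u : V} (hu : u ∈ UU z w) : h • u = u :=
  fix_span (by rintro _ (⟨c, rfl⟩ | ⟨c, rfl⟩); exacts [hz c, hw c]) hu

theorem lam_eq {x y : ι} {l l' : H} (hl : l ∈ Lam x y) (hl' : l' ∈ Lam x y) (v : V) : l • v = l' • v := by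
  have h1 := K.triv (h := l * l') (mul_mem (K.lamP x y l hl) (K.lamP x y l' hl')) (fun u hu =>
    K.fixU (fun c => by rw [mul_smul, K.lam_z x y l' hl', K.lam_z x y l hl]) (fun c => by
      rw [mul_smul]
      by_cases hx : c = x
      · subst hx
        rw [K.lam_wx c y l' hl', smul_add, K.lam_wx c y l hl, K.lam_z c y l hl, add_assoc, add_self, add_zero]
      · by_cases hy : c = y
        · subst hy
          rw [K.lam_wy x c l' hl', smul_add, K.lam_wy x c l hl, K.lam_z x c l hl, add_assoc, add_self, add_zero]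
        · rw [K.lam_w x y l' hl' c hx hy, K.lam_w x y l hl c hx hy]) hu) (fun v => by
      rw [mul_smul]
      have h1 := K.lam_mem hl' v
      have h2 := K.lam_mem hl (l' • v)
      have : l • l' • v + v = (l • l' • v + l' • v) + (l' • v + v) := by
        have e : (l • l' • v + l' • v) + (l' • v + v) = l • l' • v + (l' • v + l' • v) + v := by abel
        rw [e, add_self, add_zero]
      rw [this]
      exact add_mem h2 h1) v
  rw [mul_smul] at h1
  have h2 : l • l • l' • v = l • v := congrArg (fun t => l • t) h1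
  rw [K.lam_sq hl] at h2
  exact h2.symm

/-- the three elements over a triangle -/
theorem lam_tri {x y u : ι} (hxy : x ≠ y) (hxu : x ≠ u) (hyu : y ≠ u) {l₁ l₂ l₃ : H} (h₁ : l₁ ∈ Lam x y)
    (h₂ : l₂ ∈ Lam y u) (h₃ : l₃ ∈ Lam x u) (v : V) : l₁ • l₂ • l₃ • v = v := by
  have h1 := K.triv (h := l₁ * l₂ * l₃)
    (mul_mem (mul_mem (K.lamP x y l₁ h₁) (K.lamP y u l₂ h₂)) (K.lamP x u l₃ h₃)) (fun t ht =>
    K.fixU (fun c => by rw [mul_smul, mul_smul, K.lam_z x u l₃ h₃, K.lam_z y u l₂ h₂, K.lam_z x y l₁ h₁]) (fun c => by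
      rw [mul_smul, mul_smul]
      by_cases hx : c = x
      · subst hx
        rw [K.lam_wx c u l₃ h₃, smul_add, smul_add, K.lam_w y u l₂ h₂ c hxy hxu, K.lam_wx c y l₁ h₁,
          K.lam_z y u l₂ h₂, K.lam_z c y l₁ h₁, add_assoc, add_self, add_zero]
      · by_cases hy : c = y
        · subst hy
          rw [K.lam_w x u l₃ h₃ c hx hyu, K.lam_wx c u l₂ h₂, smul_add, K.lam_wy x c l₁ h₁, K.lam_z x c l₁ h₁,
            add_assoc, add_self, add_zero]
        · by_cases hu : c = u
          · subst hu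
            rw [K.lam_wy x c l₃ h₃, smul_add, smul_add, K.lam_wy y c l₂ h₂, smul_add, K.lam_w x y l₁ h₁ c hx hy,
              K.lam_z y c l₂ h₂, K.lam_z x y l₁ h₁, add_assoc, add_self, add_zero]
          · rw [K.lam_w x u l₃ h₃ c hx hu, K.lam_w y u l₂ h₂ c hy hu, K.lam_w x y l₁ h₁ c hx hy]) ht) (fun v => by
      rw [mul_smul, mul_smul]
      have h1 := K.lam_mem h₃ v
      have h2 := K.lam_mem h₂ (l₃ • v)
      have h3 := K.lam_mem h₁ (l₂ • l₃ • v)
      have : l₁ • l₂ • l₃ • v + v = (l₁ • l₂ • l₃ • v + l₂ • l₃ • v) + (l₂ • l₃ • v + l₃ • v) + (l₃ • v + v) := by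
        have e : (l₁ • l₂ • l₃ • v + l₂ • l₃ • v) + (l₂ • l₃ • v + l₃ • v) + (l₃ • v + v) =
          l₁ • l₂ • l₃ • v + (l₂ • l₃ • v + l₂ • l₃ • v) + (l₃ • v + l₃ • v) + v := by abel
        rw [e, add_self, add_self, add_zero, add_zero]
      rw [this]
      exact add_mem (add_mem h3 h2) h1) v
  rwa [mul_smul, mul_smul] at h1

theorem coef_unique {x y : ι} (hxy : x ≠ y) {v : V} {a b a' b' : ZMod 2}
    (h : v + (a • z x + b • z y) = v + (a' • z x + b' • z y)) : a = a' ∧ b = b' := by
  have h1 := add_left_cancel h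
  have h2 : (a - a') • z x + (b - b') • z y = 0 := by
    rw [sub_smul, sub_smul]
    have : a • z x - a' • z x + (b • z y - b' • z y) = (a • z x + b • z y) - (a' • z x + b' • z y) := by abel
    rw [this, h1, sub_self]
  have h3 := K.ind2 hxy h2
  exact ⟨sub_eq_zero.1 h3.1, sub_eq_zero.1 h3.2⟩

/-- the coefficient at `z_x` does not depend on the second letter -/
theorem coef_eq {x y u : ι} (hxy : x ≠ y) (hxu : x ≠ u) {l l' : H} (hl : l ∈ Lam x y) (hl' : l' ∈ Lam x u) {v : V}
    {a b a' b' : ZMod 2} (h : l • v = v + (a • z x + b • z y)) (h' : l' • v = v + (a' • z x + b' • z u)) : a = a' := by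
  by_cases hyu : y = u
  · subst hyu
    have h1 := K.lam_eq hl hl' v
    rw [h, h'] at h1
    exact (K.coef_unique hxy h1).1
  · obtain ⟨l₂, hl₂⟩ := K.lamNe y u hyu
    have h1 := K.lam_tri hxy hxu hyu hl hl₂ hl' v
    obtain ⟨c, d, h2⟩ := K.lam_im y u l₂ hl₂ v
    have hm1 : a' • z x + b' • z u ∈ LL z :=
      add_mem (Submodule.smul_mem _ _ (z_mem x)) (Submodule.smul_mem _ _ (z_mem u))
    have hm2 : c • z y + d • z u ∈ LL z :=
      add_mem (Submodule.smul_mem _ _ (z_mem y)) (Submodule.smul_mem _ _ (z_mem u))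
    rw [h', smul_add, K.lam_L hl₂ hm1, h2, smul_add, smul_add, K.lam_L hl hm1, K.lam_L hl hm2, h] at h1
    have h3 : (a + a') • z x + (b + c) • z y + (d + b') • z u = 0 := by
      have e : v + ((a + a') • z x + (b + c) • z y + (d + b') • z u) = v + 0 := by
        rw [add_zero]
        refine Eq.trans ?_ h1
        rw [add_smul, add_smul, add_smul]
        abel
      exact add_left_cancel e
    have h4 := (K.ind3 hxy hxu hyu h3).1
    have := eq_neg_of_add_eq_zero_left h4
    rw [this]
    exact (by decide : ∀ t : ZMod 2, -t = t) a'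

theorem exists_ne' (x : ι) : ∃ d, x ≠ d := by
  obtain ⟨d, hd, -, -⟩ := exists_third K.card x x x
  exact ⟨d, hd.symm⟩

/-- the function `α` -/
theorem exists_fun : ∃ α : V → ι → ZMod 2, ∀ x y, x ≠ y → ∀ l ∈ Lam x y, ∀ v : V,
    l • v = v + (α v x • z x + α v y • z y) := by
  choose d hd using K.exists_ne'
  choose l₀ hl₀ using fun x => K.lamNe x (d x) (hd x)
  choose a b hab using fun x (v : V) => K.lam_im x (d x) (l₀ x) (hl₀ x) v
  refine ⟨fun v x => a x v, fun x y hxy l hl v => ?_⟩
  obtain ⟨c, e, h1⟩ := K.lam_im x y l hl v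
  have h2 : c = a x v := K.coef_eq hxy (hd x) hl (hl₀ x) h1 (hab x v)
  have h1' : l • v = v + (e • z y + c • z x) := by rw [h1, add_comm (c • z x)]
  have h3 : e = a y v := K.coef_eq hxy.symm (hd y) (K.lam_symm x y l hl) (hl₀ y) h1' (hab y v)
  rw [h1, h2, h3]

theorem z_inj {c d : ι} (h : z c = z d) : c = d := by
  by_contra hne
  have h1 : (1 : ZMod 2) • z c + (1 : ZMod 2) • z d = 0 := by rw [h, one_smul, add_self]
  exact one_ne_zero (K.ind2 hne h1).1

theorem sigma_ws {x y : ι} (hxy : x ≠ y) {s : H} (hs : s ∈ WS x y) (c : ι) : σ s c = Equiv.swap x y c :=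
  K.z_inj (by rw [← K.perm s (K.wsP x y s hs), K.ws_z x y hxy s hs])

/-- **(5), the main point**: on `C_V(Ã)` the elements of `WS x y` act in the same way. -/
theorem ws_eq {x y : ι} (hxy : x ≠ y) {s s' : H} (hs : s ∈ WS x y) (hs' : s' ∈ WS x y)
    {α : V → ι → ZMod 2} (hα : ∀ x y, x ≠ y → ∀ l ∈ Lam x y, ∀ v : V, l • v = v + (α v x • z x + α v y • z y))
    {v : V} (hv : ∀ c, α v c = 0) : s • v = s' • v := by
  have hsP := K.wsP x y s hs
  have hsP' := K.wsP x y s' hs'
  have hrr : ∀ t ∈ WS x y, t • (z x + z y) = z x + z y := by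
    intro t ht
    rw [smul_add, K.ws_z x y hxy t ht, K.ws_z x y hxy t ht, Equiv.swap_apply_left, Equiv.swap_apply_right, add_comm]
  have hz : ∀ c, (s * s') • z c = z c := by
    intro c
    rw [mul_smul, K.ws_z x y hxy s' hs', K.ws_z x y hxy s hs, Equiv.swap_apply_self]
  have hLs : ∀ l ∈ LL z, s • s' • l = l := by
    intro l hl
    have := fix_span (h := s * s') (X := Set.range z) (by rintro _ ⟨c, rfl⟩; exact hz c) hl
    rwa [mul_smul] at this
  have hcent := K.cent (s * s') (mul_mem hsP hsP') hz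
  -- `α` vanishes on `ker`, all `Lam` fix it
  have hlam : ∀ u : V, (∀ c, α u c = 0) → ∀ x y, x ≠ y → ∀ l ∈ Lam x y, l • u = u := by
    intro u hu x y hxy l hl
    rw [hα x y hxy l hl, hu, hu, zero_smul, zero_smul, add_zero, add_zero]
  have hws : ∀ t ∈ WS x y, ∀ u : V, (∀ c, α u c = 0) → t • u = u ∨ t • u = u + (z x + z y) := fun t ht u hu =>
    K.ws_cv x y hxy t ht u (hlam u hu x y hxy)
  -- `s s'` on `u ∈ ker α`
  have hss : ∀ u : V, (∀ c, α u c = 0) → s • s' • u = u ∨ s • s' • u = u + (z x + z y) := by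
    intro u hu
    rcases hws s' hs' u hu with h1 | h1
    · rw [h1]; exact hws s hs u hu
    · rw [h1, smul_add, hrr s hs]
      rcases hws s hs u hu with h2 | h2
      · right; rw [h2]
      · left; rw [h2, add_assoc, add_self, add_zero]
  -- `s s'` on the `w`
  have hwc : ∀ c, c ≠ x → c ≠ y → (s * s') • w c = w c := by
    intro c hx hy
    rcases hcent c with h1 | h1
    · exact h1
    · exfalso
      have h2 : (s * s') • w c = w c ∨ (s * s') • w c = w c + (z x + z y) := by
        rw [mul_smul]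
        rcases K.ws_w x y hxy s' hs' c hx hy with h3 | h3
        · rw [h3]; exact K.ws_w x y hxy s hs c hx hy
        · rw [h3, smul_add, hrr s hs]
          rcases K.ws_w x y hxy s hs c hx hy with h4 | h4
          · right; rw [h4]
          · left; rw [h4, add_assoc, add_self, add_zero]
      rcases h2 with h2 | h2
      · rw [h1] at h2
        exact K.z_ne c (add_left_cancel (h2.trans (add_zero _).symm))
      · rw [h1] at h2
        have h3 : z c = z x + z y := add_left_cancel h2
        have h4 : (1 : ZMod 2) • z x + (1 : ZMod 2) • z y + (1 : ZMod 2) • z c = 0 := by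
          rw [one_smul, one_smul, one_smul, h3, add_self]
        exact one_ne_zero (K.ind3 hxy (Ne.symm hx) (Ne.symm hy) h4).1
  obtain ⟨l₁, hl₁, e₁⟩ := K.ws_wx x y hxy s hs
  obtain ⟨l₂, hl₂, e₂⟩ := K.ws_wx x y hxy s' hs'
  have e₁' : s • w y = w x + s • l₁ := by
    have h1 := K.ws_sq x y s hs (w x)
    rw [e₁, smul_add] at h1
    have h2 : s • w y = w x - s • l₁ := eq_sub_of_add_eq h1
    rw [h2, sub_eq]
  have e₂' : s' • w y = w x + s' • l₂ := by
    have h1 := K.ws_sq x y s' hs' (w x)
    rw [e₂, smul_add] at h1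
    have h2 : s' • w y = w x - s' • l₂ := eq_sub_of_add_eq h1
    rw [h2, sub_eq]
  have hwx : (s * s') • w x = w x + s • (l₁ + l₂) := by
    rw [mul_smul, e₂, smul_add, e₁', smul_add]
    abel
  have hwy : (s * s') • w y = w y + (l₁ + l₂) := by
    rw [mul_smul, e₂', smul_add, e₁, hLs l₂ hl₂]
    abel
  have key : ∃ h ∈ P, (∀ u ∈ UU z w, h • u = u) ∧ ∀ u : V, (∀ c, α u c = 0) → h • u = s • s' • u := by
    rcases hcent y with h1 | h1
    · have h2 : l₁ + l₂ = 0 := by
        rw [hwy] at h1
        exact add_left_cancel (h1.trans (add_zero _).symm)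
      have h3 : (s * s') • w x = w x := by rw [hwx, h2, smul_zero, add_zero]
      refine ⟨s * s', mul_mem hsP hsP', fun u hu => K.fixU hz (fun c => ?_) hu, fun u _ => mul_smul _ _ _⟩
      by_cases hx : c = x
      · subst hx; exact h3
      · by_cases hy : c = y
        · subst hy; exact h1
        · exact hwc c hx hy
    · have h2 : l₁ + l₂ = z y := by
        rw [hwy] at h1
        exact add_left_cancel h1
      have h3 : (s * s') • w x = w x + z x := by
        rw [hwx, h2, K.ws_z x y hxy s hs, Equiv.swap_apply_right]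
      obtain ⟨l, hl⟩ := K.lamNe x y hxy
      refine ⟨l * (s * s'), mul_mem (K.lamP x y l hl) (mul_mem hsP hsP'), fun u hu => K.fixU (fun c => ?_)
        (fun c => ?_) hu, fun u hu => ?_⟩
      · rw [mul_smul, hz, K.lam_z x y l hl]
      · rw [mul_smul]
        by_cases hx : c = x
        · subst hx; rw [h3, smul_add, K.lam_wx c y l hl, K.lam_z c y l hl, add_assoc, add_self, add_zero]
        · by_cases hy : c = y
          · subst hy; rw [h1, smul_add, K.lam_wy x c l hl, K.lam_z x c l hl, add_assoc, add_self, add_zero]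
          · rw [hwc c hx hy, K.lam_w x y l hl c hx hy]
      · rw [mul_smul, mul_smul]
        rcases hss u hu with h4 | h4
        · rw [h4, hlam u hu x y hxy l hl]
        · rw [h4, smul_add, hlam u hu x y hxy l hl, smul_add, K.lam_z x y l hl, K.lam_z x y l hl]
  obtain ⟨h, hP, hU, hh⟩ := key
  -- decompose `V = ⟨w⟩ + ker α`
  have hαw : ∀ c, (∀ e, α (w c) e = if e = c then 1 else 0) := by
    intro c e
    by_cases hec : e = c
    · subst hec
      rw [if_pos rfl]
      obtain ⟨d, hd⟩ := K.exists_ne' e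
      obtain ⟨l, hl⟩ := K.lamNe e d hd
      have h1 := hα e d hd l hl (w e)
      have h2 : l • w e = w e + ((1 : ZMod 2) • z e + (0 : ZMod 2) • z d) := by
        rw [K.lam_wx e d l hl, one_smul, zero_smul, add_zero]
      rw [h1] at h2
      exact (K.coef_unique hd h2).1
    · rw [if_neg hec]
      obtain ⟨d, hd1, hd2, -⟩ := exists_third K.card e c c
      obtain ⟨l, hl⟩ := K.lamNe e d hd1.symm
      have h1 := hα e d hd1.symm l hl (w c)
      have h2 : l • w c = w c + ((0 : ZMod 2) • z e + (0 : ZMod 2) • z d) := by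
        rw [K.lam_w e d l hl c (Ne.symm hec) hd2.symm, zero_smul, zero_smul, add_zero, add_zero]
      rw [h1] at h2
      exact (K.coef_unique hd1.symm h2).1
  have hadd : ∀ u t : V, ∀ e, α (u + t) e = α u e + α t e := by
    intro u t e
    obtain ⟨d, hd⟩ := K.exists_ne' e
    obtain ⟨l, hl⟩ := K.lamNe e d hd
    have h1 := hα e d hd l hl (u + t)
    have h2 : l • (u + t) = (u + t) + ((α u e + α t e) • z e + (α u d + α t d) • z d) := by
      rw [smul_add, hα e d hd l hl u, hα e d hd l hl t, add_smul, add_smul]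
      abel
    rw [h1] at h2
    exact (K.coef_unique hd h2).1
  have hsum : ∀ (C : Finset ι) (f : ι → ZMod 2) (e : ι), α (∑ c ∈ C, f c • w c) e = ∑ c ∈ C, f c * α (w c) e := by
    intro C f e
    induction C using Finset.induction_on with
    | empty =>
      rw [Finset.sum_empty, Finset.sum_empty]
      have := hadd 0 0 e
      rw [add_zero] at this
      exact (by decide : ∀ t : ZMod 2, t = t + t → t = 0) _ this
    | insert a C ha ih =>
      rw [Finset.sum_insert ha, Finset.sum_insert ha, hadd, ih]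
      congr 1
      rcases zm (f a) with h1 | h1
      · rw [h1, zero_smul, zero_mul]
        have := hadd 0 0 e
        rw [add_zero] at this
        exact (by decide : ∀ t : ZMod 2, t = t + t → t = 0) _ this
      · rw [h1, one_smul, one_mul]
  have hdec : ∀ u : V, ∃ t ∈ UU z w, ∀ e, α (u + t) e = 0 := by
    intro u
    refine ⟨∑ c, α u c • w c, Submodule.sum_mem _ fun c _ => Submodule.smul_mem _ _ (w_mem c), fun e => ?_⟩
    rw [hadd, hsum]
    have h1 : ∑ c, α u c * α (w c) e = α u e := by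
      rw [Finset.sum_eq_single e]
      · rw [hαw, if_pos rfl, mul_one]
      · intro b _ hb
        rw [hαw, if_neg hb.symm, mul_zero]
      · intro h; exact absurd (Finset.mem_univ e) h
    rw [h1]
    exact (by decide : ∀ t : ZMod 2, t + t = 0) _
  have htriv := K.triv hP hU (fun u => by
    obtain ⟨t, ht, hut⟩ := hdec u
    have h1 : h • u + u = h • (u + t) + (u + t) := by
      rw [smul_add, hU t ht]
      have : h • u + t + (u + t) = h • u + u + (t + t) := by abel
      rw [this, add_self, add_zero]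
    rw [h1, hh _ hut]
    rcases hss _ hut with h2 | h2
    · rw [h2, add_self]; exact zero_mem _
    · rw [h2]
      have : u + t + (z x + z y) + (u + t) = ((u + t) + (u + t)) + (z x + z y) := by abel
      rw [this, add_self, zero_add]
      exact add_mem (z_mem x) (z_mem y)) v
  rw [hh v hv] at htriv
  have h5 : s • s • s' • v = s • v := congrArg (fun t => s • t) htriv
  rw [K.ws_sq x y s hs] at h5
  exact h5.symm

/-- **(5)**: the kernel of `α` is `L`. -/
theorem mem_LL {α : V → ι → ZMod 2}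
    (hα : ∀ x y, x ≠ y → ∀ l ∈ Lam x y, ∀ v : V, l • v = v + (α v x • z x + α v y • z y))
    {v : V} (hv : ∀ c, α v c = 0) : v ∈ LL z := by
  have hne : Nonempty ι := Fintype.card_pos_iff.1 (by have := K.card; omega)
  obtain ⟨o⟩ := hne
  have hlam : ∀ u : V, (∀ c, α u c = 0) → ∀ x y, x ≠ y → ∀ l ∈ Lam x y, l • u = u := by
    intro u hu x y hxy l hl
    rw [hα x y hxy l hl, hu, hu, zero_smul, zero_smul, add_zero, add_zero]
  have h1 : ∀ c, ∃ (s : H) (f : ZMod 2), (c = o → f = 0) ∧ (c ≠ o → s ∈ WS o c ∧ s • v = v + f • (z o + z c)) := by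
    intro c
    by_cases hc : c = o
    · exact ⟨1, 0, fun _ => rfl, fun h => absurd hc h⟩
    · obtain ⟨s, hs⟩ := K.wsNe o c (Ne.symm hc)
      rcases K.ws_cv o c (Ne.symm hc) s hs v (hlam v hv o c (Ne.symm hc)) with h2 | h2
      · exact ⟨s, 0, fun h => absurd h hc, fun _ => ⟨hs, by rw [h2, zero_smul, add_zero]⟩⟩
      · exact ⟨s, 1, fun h => absurd h hc, fun _ => ⟨hs, by rw [h2, one_smul]⟩⟩
  choose s f hf0 hf1 using h1
  set l : V := ∑ c, f c • z c with hl
  have hlL : l ∈ LL z := Submodule.sum_mem _ fun c _ => Submodule.smul_mem _ _ (z_mem c)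
  have hsl : ∀ c, c ≠ o → s c • l = l + f c • (z o + z c) := by
    intro c hc
    have h2 : s c • l + l = f c • (z o + z c) := by
      rw [hl, Finset.smul_sum, ← Finset.sum_add_distrib]
      rw [Finset.sum_eq_single c]
      · rw [smul_zm, K.ws_z o c (Ne.symm hc) _ (hf1 c hc).1, Equiv.swap_apply_right, ← smul_add]
      · intro d _ hd
        rw [smul_zm, K.ws_z o c (Ne.symm hc) _ (hf1 c hc).1, ← smul_add]
        by_cases hdo : d = o
        · rw [hf0 d hdo, zero_smul]
        · rw [Equiv.swap_apply_of_ne_of_ne hdo hd, add_self, smul_zero]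
      · intro h; exact absurd (Finset.mem_univ c) h
    have h3 : s c • l = f c • (z o + z c) - l := eq_sub_of_add_eq h2
    rw [h3, sub_eq, add_comm]
  -- `v + l` is fixed by everything
  have hαl : ∀ c, α (v + l) c = 0 := by
    intro c
    obtain ⟨d, hd⟩ := K.exists_ne' c
    obtain ⟨m, hm⟩ := K.lamNe c d hd
    have h2 := hα c d hd m hm (v + l)
    have h3 : m • (v + l) = (v + l) + ((0 : ZMod 2) • z c + (0 : ZMod 2) • z d) := by
      rw [smul_add, hlam v hv c d hd m hm, K.lam_L hm hlL, zero_smul, zero_smul, add_zero, add_zero]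
    rw [h2] at h3
    exact (K.coef_unique hd h3).1
  have hfix : ∀ c, c ≠ o → s c • (v + l) = v + l := by
    intro c hc
    rw [smul_add, (hf1 c hc).2, hsl c hc]
    have : v + f c • (z o + z c) + (l + f c • (z o + z c)) = v + l + (f c • (z o + z c) + f c • (z o + z c)) := by abel
    rw [this, add_self, add_zero]
  have hfixo : ∀ c, c ≠ o → ∀ t ∈ WS o c, t • (v + l) = v + l := by
    intro c hc t ht
    rw [K.ws_eq (Ne.symm hc) ht (hf1 c hc).1 hα hαl, hfix c hc]
  have h0 : v + l = 0 := by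
    refine K.fix0 _ fun x y hxy t ht => ?_
    by_cases hx : x = o
    · subst hx; exact hfixo y (Ne.symm hxy) t ht
    · by_cases hy : y = o
      · subst hy; exact hfixo x hx t (K.ws_symm x y t ht)
      · have hsx := (hf1 x hx).1
        have hsy := (hf1 y hy).1
        have h2 := K.ws_conj (s x) (K.wsP o x _ hsx) o y (s y) hsy
        rw [K.sigma_ws (Ne.symm hx) hsx, K.sigma_ws (Ne.symm hx) hsx, Equiv.swap_apply_left,
          Equiv.swap_apply_of_ne_of_ne hy (Ne.symm hxy)] at h2
        rw [K.ws_eq hxy ht h2 hα hαl, mul_smul, mul_smul]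
        have h3 : (s x)⁻¹ • (v + l) = v + l := by
          rw [inv_smul_eq_iff]; exact (hfix x hx).symm
        rw [h3, hfix y hy, hfix x hx]
  have : v = l := by
    have := eq_neg_of_add_eq_zero_left h0
    rwa [neg_eq] at this
  rw [this]
  exact hlL

/-- **The map `α`.** -/
theorem exists_alpha : ∃ α : V →ₗ[ZMod 2] (ι → ZMod 2),
    (∀ x y, x ≠ y → ∀ l ∈ Lam x y, ∀ v : V, l • v = v + (α v x • z x + α v y • z y)) ∧
    (∀ v, α v = 0 ↔ v ∈ LL z) ∧ ∀ c, α (w c) = Pi.single c 1 := by
  obtain ⟨α, hα⟩ := K.exists_fun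
  have hadd : ∀ u t : V, α (u + t) = α u + α t := by
    intro u t
    funext e
    obtain ⟨d, hd⟩ := K.exists_ne' e
    obtain ⟨l, hl⟩ := K.lamNe e d hd
    have h1 := hα e d hd l hl (u + t)
    have h2 : l • (u + t) = (u + t) + ((α u e + α t e) • z e + (α u d + α t d) • z d) := by
      rw [smul_add, hα e d hd l hl u, hα e d hd l hl t, add_smul, add_smul]
      abel
    rw [h1] at h2
    exact (K.coef_unique hd h2).1
  have h0 : α 0 = 0 := by
    have := hadd 0 0
    rw [add_zero] at this
    exact (left_eq_add.1 this)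
  refine ⟨{ toFun := α, map_add' := hadd, map_smul' := fun a v => ?_ }, hα, fun v => ⟨fun h => ?_, fun h => ?_⟩,
    fun c => ?_⟩
  · rcases zm a with rfl | rfl
    · simp [h0]
    · simp
  · exact K.mem_LL hα fun c => congrFun h c
  · show α v = 0
    funext e
    obtain ⟨d, hd⟩ := K.exists_ne' e
    obtain ⟨l, hl⟩ := K.lamNe e d hd
    have h1 := hα e d hd l hl v
    have h2 : l • v = v + ((0 : ZMod 2) • z e + (0 : ZMod 2) • z d) := by
      rw [K.lam_L hl h, zero_smul, zero_smul, add_zero, add_zero]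
    rw [h1] at h2
    exact (K.coef_unique hd h2).1
  · show α (w c) = _
    funext e
    by_cases hec : e = c
    · subst hec
      rw [Pi.single_eq_same]
      obtain ⟨d, hd⟩ := K.exists_ne' e
      obtain ⟨l, hl⟩ := K.lamNe e d hd
      have h1 := hα e d hd l hl (w e)
      have h2 : l • w e = w e + ((1 : ZMod 2) • z e + (0 : ZMod 2) • z d) := by
        rw [K.lam_wx e d l hl, one_smul, zero_smul, add_zero]
      rw [h1] at h2
      exact (K.coef_unique hd h2).1
    · rw [Pi.single_eq_of_ne hec]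
      obtain ⟨d, hd1, hd2, -⟩ := exists_third K.card e c c
      obtain ⟨l, hl⟩ := K.lamNe e d hd1.symm
      have h1 := hα e d hd1.symm l hl (w c)
      have h2 : l • w c = w c + ((0 : ZMod 2) • z e + (0 : ZMod 2) • z d) := by
        rw [K.lam_w e d l hl c (Ne.symm hec) hd2.symm, zero_smul, zero_smul, add_zero, add_zero]
      rw [h1] at h2
      exact (K.coef_unique hd1.symm h2).1

end Core

end Cfsg.Agent.Omega.NO3S.BetaFF.SymBad
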