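import Cfsg.Agent.Omega.NO3S.BetaFF.SymBad.Alpha

/-!
# THEOREM BETA-FF(3) (#20155, helper98), part 2: (8), (9) (pure form)

`S ≤ P` fixes the letter `o` and is transitive on the others; `stL` : the stabiliser of `z o` in `H` normalises `L`
((7)).  `al` : (9) (al); `be_false` : (9) (be).
-/

set_option autoImplicit false
set_option linter.unusedSectionVars false

namespace Cfsg.Agent.Omega.NO3S.BetaFF.SymBad

open scoped Classical

variable {H V ι : Type*} [Group H] [AddCommGroup V] [Module (ZMod 2) V] [DistribMulAction H V] [Fintype ι]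

open Core (LL UU add_self sub_eq neg_eq zm smul_zm z_mem fix_span exists_third)

/-- The data for (8), (9). -/
structure Ext (P S : Subgroup H) (z w : ι → V) (Lam WS : ι → ι → Set H) (σ : H → Equiv.Perm ι) (o : ι)
    (α : V →ₗ[ZMod 2] (ι → ZMod 2)) : Prop extends Core P z w Lam WS σ where
  fin : Finite V
  odd : Odd (Fintype.card ι)
  SP : S ≤ P
  fixo : ∀ s ∈ S, σ s o = o
  trans : ∀ c d, c ≠ o → d ≠ o → ∃ s ∈ S, σ s c = d
  lam_conj : ∀ p ∈ P, ∀ x y, ∀ l ∈ Lam x y, p * l * p⁻¹ ∈ Lam (σ p x) (σ p y)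
  hα : ∀ x y, x ≠ y → ∀ l ∈ Lam x y, ∀ v : V, l • v = v + (α v x • z x + α v y • z y)
  ker : ∀ v, α v = 0 ↔ v ∈ LL z
  stL : ∀ h : H, h • z o = z o → ∀ l ∈ LL z, h • l ∈ LL z

namespace Ext

variable {P S : Subgroup H} {z w : ι → V} {Lam WS : ι → ι → Set H} {σ : H → Equiv.Perm ι} {o : ι}
  {α : V →ₗ[ZMod 2] (ι → ZMod 2)} (E : Ext P S z w Lam WS σ o α)
include E

/-- `α` is `P`-equivariant. -/
theorem alpha_smul {p : H} (hp : p ∈ P) (v : V) (c : ι) : α (p • v) (σ p c) = α v c := by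
  obtain ⟨d, hd⟩ := E.exists_ne' c
  obtain ⟨l, hl⟩ := E.lamNe c d hd
  have h1 := E.lam_conj p hp c d l hl
  have hne : σ p c ≠ σ p d := fun h => hd ((σ p).injective h)
  have h2 := E.hα _ _ hne _ h1 (p • v)
  rw [mul_smul, mul_smul, inv_smul_smul, E.hα c d hd l hl v, smul_add, smul_add, smul_zm, smul_zm, E.perm p hp,
    E.perm p hp] at h2
  exact (E.coef_unique hne h2).1.symm

/-- elements fixing the point `g • z o` normalise `g • L` -/
theorem st_conj {g h : H} (hh : h • g • z o = g • z o) {u : V} (hu : g⁻¹ • u ∈ LL z) : g⁻¹ • h • u ∈ LL z := by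
  have h1 : (g⁻¹ * h * g) • z o = z o := by
    rw [mul_smul, mul_smul, hh, inv_smul_smul]
  have h2 := E.stL _ h1 _ hu
  rwa [mul_smul, mul_smul, smul_inv_smul] at h2

omit E in
theorem inv_add {g : H} {u v : V} (hu : g⁻¹ • u ∈ LL z) (hv : g⁻¹ • v ∈ LL z) : g⁻¹ • (u + v) ∈ LL z := by
  rw [smul_add]; exact add_mem hu hv

omit E in
theorem inv_sum {g : H} {C : Finset ι} {f : ι → V} (hf : ∀ c ∈ C, g⁻¹ • f c ∈ LL z) : g⁻¹ • ∑ c ∈ C, f c ∈ LL z := by
  rw [Finset.smul_sum]; exact Submodule.sum_mem _ hf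

/-- `z x = ∑_{c ≠ x} z c` -/
theorem z_eq_sum (x : ι) : z x = ∑ c ∈ Finset.univ.erase x, z c := by
  have h1 := Finset.add_sum_erase Finset.univ z (Finset.mem_univ x)
  rw [E.zsum] at h1
  have := eq_neg_of_add_eq_zero_left h1
  rwa [neg_eq] at this

omit E in
theorem even_nsmul (v : V) {n : ℕ} (hn : Even n) : n • v = 0 := by
  obtain ⟨k, rfl⟩ := hn
  rw [add_smul, ← smul_add, add_self, smul_zero]

theorem card_erase (x : ι) : Even (Finset.univ.erase x : Finset ι).card := by
  rw [Finset.card_erase_of_mem (Finset.mem_univ x), Finset.card_univ]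
  have := E.odd
  obtain ⟨k, hk⟩ := this
  exact ⟨k, by omega⟩

/-- `z x = ∑_{c ≠ x} (z c + v)` -/
theorem z_eq_sum' (x : ι) (v : V) : z x = ∑ c ∈ Finset.univ.erase x, (z c + v) := by
  rw [Finset.sum_add_distrib, Finset.sum_const, even_nsmul v (E.card_erase x), add_zero]
  exact E.z_eq_sum x

/-- If all `z c` lie in `g • L`, then `g` normalises `L`. -/
theorem norm_of_all {g : H} (h : ∀ c, g⁻¹ • z c ∈ LL z) : ∀ l ∈ LL z, g • l ∈ LL z := by
  have := E.fin
  have h1 : ∀ l ∈ LL z, g⁻¹ • l ∈ LL z := by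
    intro l hl
    induction hl using Submodule.span_induction with
    | mem v hv => obtain ⟨c, rfl⟩ := hv; exact h c
    | zero => rw [smul_zero]; exact zero_mem _
    | add u v _ _ hu hv => rw [smul_add]; exact add_mem hu hv
    | smul a v _ hv => rw [smul_zm]; exact Submodule.smul_mem _ _ hv
  let f : LL z → LL z := fun l => ⟨g⁻¹ • (l : V), h1 l l.2⟩
  have hf : Function.Injective f := by
    intro a b hab
    have := congrArg Subtype.val hab
    exact Subtype.ext (smul_left_cancel g⁻¹ this)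
  have hs := Finite.surjective_of_injective hf
  intro l hl
  obtain ⟨m, hm⟩ := hs ⟨l, hl⟩
  have h2 : g⁻¹ • (m : V) = l := congrArg Subtype.val hm
  rw [← h2, smul_inv_smul]
  exact m.2

section al

variable {g : H} (hζ : g • z o ∈ LL z) (hne : ¬ ∀ l ∈ LL z, g • l ∈ LL z)
include hζ

/-- the elements of `Lam x y` normalise `g • L` -/
theorem lam_gL {x y : ι} (hxy : x ≠ y) {l : H} (hl : l ∈ Lam x y) {u : V} (hu : g⁻¹ • u ∈ LL z) :
    g⁻¹ • (α u x • z x + α u y • z y) ∈ LL z := by
  have h1 : l • g • z o = g • z o := E.lam_L hl hζ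
  have h2 := E.st_conj h1 hu
  have h3 := inv_add h2 hu
  rw [E.hα x y hxy l hl u] at h3
  have : u + (α u x • z x + α u y • z y) + u = (u + u) + (α u x • z x + α u y • z y) := by abel
  rwa [this, add_self, zero_add] at h3

include hne

/-- no element of `g • L` has full support -/
theorem no_full {u : V} (hu : g⁻¹ • u ∈ LL z) : ∃ d, α u d = 0 := by
  by_contra hcon
  push Not at hcon
  have h1 : ∀ d, α u d = 1 := fun d => (zm (α u d)).resolve_left (hcon d)
  apply hne
  apply E.norm_of_all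
  intro c
  obtain ⟨d, hd⟩ := E.exists_ne' c
  rw [E.z_eq_sum' c (z c)]
  refine inv_sum fun e he => ?_
  have hec : e ≠ c := Finset.ne_of_mem_erase he
  obtain ⟨l, hl⟩ := E.lamNe e c hec
  have h2 := E.lam_gL hζ hec hl hu
  rwa [h1, h1, one_smul, one_smul] at h2

/-- the support of an element of `g • L` consists of letters `c` with `z c ∈ g • L` -/
theorem supp_sub {u : V} (hu : g⁻¹ • u ∈ LL z) {c : ι} (hc : α u c = 1) : g⁻¹ • z c ∈ LL z := by
  obtain ⟨d, hd⟩ := E.no_full hζ hne hu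
  have hcd : c ≠ d := by rintro rfl; rw [hc] at hd; exact one_ne_zero hd
  obtain ⟨l, hl⟩ := E.lamNe c d hcd
  have h2 := E.lam_gL hζ hcd hl hu
  rwa [hc, hd, one_smul, zero_smul, add_zero] at h2

/-- some letter is not in `C` -/
theorem exists_notMem : ∃ d, g⁻¹ • z d ∉ LL z := by
  by_contra hcon
  push Not at hcon
  exact hne (E.norm_of_all hcon)

theorem exists_supp : ∃ u : V, g⁻¹ • u ∈ LL z ∧ ∃ c, α u c = 1 := by
  have hne' := hne
  push Not at hne'
  obtain ⟨l, hl, hgl⟩ := hne'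
  refine ⟨g • l, by rwa [inv_smul_smul], ?_⟩
  by_contra hcon
  push Not at hcon
  apply hgl
  rw [← E.ker]
  funext c
  exact (zm _).resolve_right (hcon c)

omit hne in
/-- swaps fixing `ζ` -/
theorem swap_mem {c d : ι} (hcd : c ≠ d) {s : H} (hs : s ∈ WS c d) (hsz : s • g • z o = g • z o)
    (hc : g⁻¹ • z c ∈ LL z) : g⁻¹ • z d ∈ LL z := by
  have h1 := E.st_conj hsz hc
  rwa [E.ws_z c d hcd s hs, Equiv.swap_apply_left] at h1

/-- **`ζ = ∑_{c ∈ C} z c`, `C = {c | z c ∈ g • L}`.** -/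
theorem zeta_eq : g • z o = ∑ c ∈ Finset.univ.filter (fun c => g⁻¹ • z c ∈ LL z), z c := by
  obtain ⟨f, hf⟩ := E.exists_coef hζ
  -- swaps of two letters with the same coefficient fix `ζ`
  have hsw : ∀ c d, c ≠ d → f c = f d → ∀ s ∈ WS c d, s • g • z o = g • z o := by
    intro c d hcd hfe s hs
    rw [hf, Finset.smul_sum]
    have h1 : ∀ e, s • (f e • z e) = f (Equiv.swap c d e) • z (Equiv.swap c d e) := by
      intro e
      rw [smul_zm, E.ws_z c d hcd s hs]
      congr 1
      by_cases h1 : e = c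
      · subst h1; rw [Equiv.swap_apply_left, hfe]
      · by_cases h2 : e = d
        · subst h2; rw [Equiv.swap_apply_right, hfe]
        · rw [Equiv.swap_apply_of_ne_of_ne h1 h2]
    rw [Finset.sum_congr rfl fun e _ => h1 e]
    exact Equiv.sum_comp (Equiv.swap c d) (fun e => f e • z e)
  have hcl : ∀ c d, f c = f d → g⁻¹ • z c ∈ LL z → g⁻¹ • z d ∈ LL z := by
    intro c d hfe hc
    by_cases hcd : c = d
    · subst hcd; exact hc
    · obtain ⟨s, hs⟩ := E.wsNe c d hcd
      exact E.swap_mem hζ hcd hs (hsw c d hcd hfe s hs) hc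
  obtain ⟨d, hd⟩ := E.exists_notMem hζ hne
  obtain ⟨u, hu, c, hc⟩ := E.exists_supp hζ hne
  have hcC := E.supp_sub hζ hne hu hc
  have hfcd : f c ≠ f d := fun h => hd (hcl c d h hcC)
  have hmem : ∀ e, g⁻¹ • z e ∈ LL z ↔ f e = f c := by
    intro e
    constructor
    · intro he
      by_contra h1
      have h2 : f e = f d := by
        have : ∀ a b c : ZMod 2, a ≠ b → b ≠ c → a = c := by decide
        exact this (f e) (f c) (f d) h1 hfcd
      exact hd (hcl e d h2 he)
    · intro he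
      exact hcl c e he.symm hcC
  rw [Finset.sum_filter, hf]
  rcases zm (f c) with h1 | h1
  · -- replace `f` by `f + 1`
    have h2 : ∑ e, f e • z e = ∑ e, (f e • z e + z e) := by rw [Finset.sum_add_distrib, E.zsum, add_zero]
    rw [h2]
    refine Finset.sum_congr rfl fun e _ => ?_
    by_cases h3 : g⁻¹ • z e ∈ LL z
    · rw [if_pos h3, (hmem e).1 h3, h1, zero_smul, zero_add]
    · rw [if_neg h3]
      have h4 : f e = 1 := (zm (f e)).resolve_left fun h => h3 ((hmem e).2 (h.trans h1.symm))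
      rw [h4, one_smul, add_self]
  · refine Finset.sum_congr rfl fun e _ => ?_
    by_cases h3 : g⁻¹ • z e ∈ LL z
    · rw [if_pos h3, (hmem e).1 h3, h1, one_smul]
    · rw [if_neg h3]
      have h4 : f e = 0 := (zm (f e)).resolve_right fun h => h3 ((hmem e).2 (h.trans h1.symm))
      rw [h4, zero_smul]

/-- for every `c ∈ C` some `u ∈ g • L` has `α_c(u) = 1` -/
theorem exists_one {c : ι} (hc : g⁻¹ • z c ∈ LL z) : ∃ u : V, g⁻¹ • u ∈ LL z ∧ α u c = 1 := by
  obtain ⟨u, hu, e, he⟩ := E.exists_supp hζ hne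
  by_cases hce : e = c
  · subst hce; exact ⟨u, hu, he⟩
  · have heC := E.supp_sub hζ hne hu he
    obtain ⟨s, hs⟩ := E.wsNe e c hce
    -- `s` fixes `ζ = ∑_C z`
    have hsz : s • g • z o = g • z o := by
      rw [E.zeta_eq hζ hne, Finset.smul_sum, Finset.sum_filter, Finset.sum_filter]
      have h1 : ∀ t, (if g⁻¹ • z t ∈ LL z then s • z t else 0) =
          (fun t => if g⁻¹ • z t ∈ LL z then z t else 0) (Equiv.swap e c t) := by
        intro t
        show _ = if g⁻¹ • z (Equiv.swap e c t) ∈ LL z then z (Equiv.swap e c t) else 0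
        rw [E.ws_z e c hce s hs]
        by_cases h1 : t = e
        · subst h1; rw [Equiv.swap_apply_left, if_pos heC, if_pos hc]
        · by_cases h2 : t = c
          · subst h2; rw [Equiv.swap_apply_right, if_pos heC, if_pos hc]
          · rw [Equiv.swap_apply_of_ne_of_ne h1 h2]
      rw [Finset.sum_congr rfl fun t _ => h1 t]
      exact Equiv.sum_comp (Equiv.swap e c) (fun t => if g⁻¹ • z t ∈ LL z then z t else 0)
    refine ⟨s • u, E.st_conj hsz hu, ?_⟩
    have h2 := E.alpha_smul (E.wsP e c s hs) u e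
    rw [E.sigma_ws hce hs, Equiv.swap_apply_left] at h2
    rw [h2, he]

end al

/-! ### Combinatorics of the `z c` -/

/-- two sums of `z`'s -/
theorem sum_eq_iff {D D' : Finset ι} (h : ∑ c ∈ D, z c = ∑ c ∈ D', z c) : D = D' ∨ D = D'ᶜ := by
  have h1 : ∑ c, ((if c ∈ D then (1 : ZMod 2) else 0) + (if c ∈ D' then 1 else 0)) • z c = 0 := by
    have e1 : ∀ X : Finset ι, ∑ c, (if c ∈ X then (1 : ZMod 2) else 0) • z c = ∑ c ∈ X, z c := by
      intro X
      rw [← Finset.sum_filter_add_sum_filter_not Finset.univ (fun c => c ∈ X)]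
      have h2 : ∑ c ∈ Finset.univ.filter (fun c => ¬ c ∈ X), (if c ∈ X then (1 : ZMod 2) else 0) • z c = 0 :=
        Finset.sum_eq_zero fun c hc => by rw [if_neg (Finset.mem_filter.1 hc).2, zero_smul]
      rw [h2, add_zero]
      refine Finset.sum_congr (by ext c; simp) fun c hc => ?_
      rw [if_pos hc, one_smul]
    simp only [add_smul, Finset.sum_add_distrib]
    rw [e1, e1, h, add_self]
  have h2 := E.const_of_sum h1
  have hdec : ∀ c, ((if c ∈ D then (1 : ZMod 2) else 0) + (if c ∈ D' then 1 else 0) = 0 ↔ (c ∈ D ↔ c ∈ D')) := by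
    intro c
    by_cases h3 : c ∈ D <;> by_cases h4 : c ∈ D' <;> simp [h3, h4]
    decide
  by_cases h3 : ∀ c, (c ∈ D ↔ c ∈ D')
  · left; ext c; exact h3 c
  · right
    push Not at h3
    obtain ⟨c, hc⟩ := h3
    have hc' : ¬ (c ∈ D ↔ c ∈ D') := by tauto
    ext e
    rw [Finset.mem_compl]
    have h4 : ¬ (e ∈ D ↔ e ∈ D') := by
      rw [← hdec]
      rw [← hdec] at hc'
      rwa [h2 e c]
    tauto

theorem pair_eq {a b c d : ι} (hab : a ≠ b) (h : z a + z b = z c + z d) (hcd : c ≠ d) :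
    (c = a ∧ d = b) ∨ (c = b ∧ d = a) := by
  have h1 : ∑ e ∈ ({a, b} : Finset ι), z e = ∑ e ∈ ({c, d} : Finset ι), z e := by
    rw [Finset.sum_pair hab, Finset.sum_pair hcd, h]
  rcases E.sum_eq_iff h1 with h2 | h2
  · have hc : c ∈ ({a, b} : Finset ι) := by rw [h2]; simp
    have hd : d ∈ ({a, b} : Finset ι) := by rw [h2]; simp
    simp only [Finset.mem_insert, Finset.mem_singleton] at hc hd
    rcases hc with rfl | rfl
    · rcases hd with rfl | rfl
      · exact absurd rfl hcd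
      · exact Or.inl ⟨rfl, rfl⟩
    · rcases hd with rfl | rfl
      · exact Or.inr ⟨rfl, rfl⟩
      · exact absurd rfl hcd
  · exfalso
    have h3 := congrArg Finset.card h2
    rw [Finset.card_compl, Finset.card_pair hab, Finset.card_pair hcd] at h3
    have := E.card
    omega

/-- a commuting family of transpositions etc: an element `m` of `S` with `m l = l + a(l) y` -/
theorem swap_of {m : H} (hm : m ∈ S) {y : V} (h : ∀ c, z (σ m c) = z c ∨ z (σ m c) = z c + y) :
    ∀ c, σ m c = c ∨ (c ≠ o ∧ σ m c ≠ o ∧ y = z c + z (σ m c)) := by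
  intro c
  by_cases hc : σ m c = c
  · exact Or.inl hc
  · right
    refine ⟨?_, ?_, ?_⟩
    · rintro rfl; exact hc (E.fixo m hm)
    · intro h1
      have : c = o := (σ m).injective (by rw [h1, E.fixo m hm])
      rw [this] at hc
      exact hc (E.fixo m hm)
    · rcases h c with h1 | h1
      · exact absurd (E.z_inj h1) hc
      · rw [h1, ← add_assoc, add_self, zero_add]

/-- **(9) (al)** -/
theorem al {g : H} (hQ : ∀ x y, x ≠ y → ∀ l ∈ Lam x y, g⁻¹ * l * g ∈ S) (EE : Submodule (ZMod 2) V)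
    (hEL : EE ≤ LL z) (hEg : ∀ e ∈ EE, g⁻¹ • e ∈ EE) (hEg' : g • z o ∈ EE) (hEo : z o ∈ EE)
    (hES : ∀ s ∈ S, ∀ e ∈ EE, s • e ∈ EE) : ∀ l ∈ LL z, g • l ∈ LL z := by
  by_contra hne
  have hζ : g • z o ∈ LL z := hEL hEg'
  set C : Finset ι := Finset.univ.filter (fun c => g⁻¹ • z c ∈ LL z) with hC
  have hmemC : ∀ c, c ∈ C ↔ g⁻¹ • z c ∈ LL z := by intro c; simp [hC]
  have hzeta : g • z o = ∑ c ∈ C, z c := E.zeta_eq hζ hne
  obtain ⟨d, hd⟩ := E.exists_notMem hζ hne
  have hdC : ∀ u : V, g⁻¹ • u ∈ LL z → α u d = 0 := fun u hu =>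
    (zm (α u d)).resolve_right fun h => hd (E.supp_sub hζ hne hu h)
  have hcd : ∀ c ∈ C, c ≠ d := by rintro c hc rfl; exact hd ((hmemC c).1 hc)
  have hl : ∀ c : ι, ∃ l : H, c ∈ C → l ∈ Lam c d := by
    intro c
    by_cases hc : c ∈ C
    · obtain ⟨l, hl⟩ := E.lamNe c d (hcd c hc)
      exact ⟨l, fun _ => hl⟩
    · exact ⟨1, fun h => absurd h hc⟩
  choose l hl using hl
  set m : ι → H := fun c => g⁻¹ * l c * g with hm
  have hmS : ∀ c ∈ C, m c ∈ S := fun c hc => hQ c d (hcd c hc) (l c) (hl c hc)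
  have hmP : ∀ c ∈ C, m c ∈ P := fun c hc => E.SP (hmS c hc)
  -- action of `m c` on `L`
  have hact : ∀ c ∈ C, ∀ t ∈ LL z, m c • t = t + α (g • t) c • (g⁻¹ • z c) := by
    intro c hc t ht
    have h1 : g⁻¹ • g • t ∈ LL z := by rwa [inv_smul_smul]
    rw [hm]
    show (g⁻¹ * l c * g) • t = _
    rw [mul_smul, mul_smul, E.hα c d (hcd c hc) (l c) (hl c hc), hdC _ h1, zero_smul, add_zero, smul_add,
      inv_smul_smul, smul_zm]
  have hmz : ∀ c ∈ C, ∀ e, z (σ (m c) e) = z e ∨ z (σ (m c) e) = z e + g⁻¹ • z c := by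
    intro c hc e
    rw [← E.perm (m c) (hmP c hc), hact c hc (z e) (z_mem e)]
    rcases zm (α (g • z e) c) with h1 | h1
    · left; rw [h1, zero_smul, add_zero]
    · right; rw [h1, one_smul]
  have hsw := fun c (hc : c ∈ C) => E.swap_of (hmS c hc) (hmz c hc)
  -- `m c` moves a letter
  have hmov : ∀ c ∈ C, ∃ a, σ (m c) a ≠ a := by
    intro c hc
    by_contra hcon
    push Not at hcon
    obtain ⟨u, hu, hu1⟩ := E.exists_one hζ hne ((hmemC c).1 hc)
    have h1 : m c • g⁻¹ • u = g⁻¹ • u :=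
      fix_span (X := Set.range z) (by
        rintro _ ⟨e, rfl⟩
        rw [E.perm (m c) (hmP c hc), hcon]) hu
    rw [hact c hc _ hu, smul_inv_smul, hu1, one_smul] at h1
    have h2 : g⁻¹ • z c = 0 := add_left_cancel (h1.trans (add_zero _).symm)
    rw [smul_eq_zero_iff_eq] at h2
    exact E.z_ne c h2
  have hab : ∀ c : ι, ∃ a b : ι, c ∈ C → σ (m c) a = b ∧ a ≠ b ∧ a ≠ o ∧ b ≠ o ∧ g⁻¹ • z c = z a + z b := by
    intro c
    by_cases hc : c ∈ C
    · obtain ⟨a, ha⟩ := hmov c hc
      refine ⟨a, σ (m c) a, fun _ => ?_⟩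
      rcases hsw c hc a with h1 | ⟨h1, h2, h3⟩
      · exact absurd h1 ha
      · exact ⟨rfl, Ne.symm ha, h1, h2, h3⟩
    · exact ⟨c, c, fun h => absurd h hc⟩
  choose a b hab using hab
  -- `σ (m c)` is the transposition `(a c, b c)`
  have hfix : ∀ c ∈ C, ∀ e, e ≠ a c → e ≠ b c → σ (m c) e = e := by
    intro c hc e ha hb
    rcases hsw c hc e with h1 | ⟨-, -, h3⟩
    · exact h1
    · by_contra h4
      obtain ⟨-, h5, -, -, h6⟩ := hab c hc
      rw [h6] at h3
      rcases E.pair_eq h5 h3 (Ne.symm h4) with ⟨h7, -⟩ | ⟨h7, -⟩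
      · exact ha h7
      · exact hb h7
  have hσb : ∀ c ∈ C, σ (m c) (b c) = a c := by
    intro c hc
    obtain ⟨h1, h2, -, -, h6⟩ := hab c hc
    rcases hsw c hc (b c) with h3 | ⟨-, -, h3⟩
    · exact absurd ((σ (m c)).injective (h1.trans h3.symm)) h2
    · rw [h6] at h3
      have h4 : b c ≠ σ (m c) (b c) := by
        intro h5
        exact h2 ((σ (m c)).injective (h1.trans h5))
      rcases E.pair_eq h2 h3 h4 with ⟨h7, -⟩ | ⟨-, h7⟩
      · exact absurd h7.symm h2
      · exact h7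
  have hσ : ∀ c ∈ C, ∀ e, σ (m c) e = Equiv.swap (a c) (b c) e := by
    intro c hc e
    by_cases h1 : e = a c
    · rw [h1, Equiv.swap_apply_left]; exact (hab c hc).1
    · by_cases h2 : e = b c
      · rw [h2, Equiv.swap_apply_right]; exact hσb c hc
      · rw [Equiv.swap_apply_of_ne_of_ne h1 h2]; exact hfix c hc e h1 h2
  -- the `σ (m c)` commute
  have hcomm : ∀ c ∈ C, ∀ c' ∈ C, ∀ e, σ (m c) (σ (m c') e) = σ (m c') (σ (m c) e) := by
    intro c hc c' hc' e
    apply E.z_inj
    rw [← E.perm _ (hmP c hc), ← E.perm _ (hmP c' hc'), ← E.perm _ (hmP c' hc'), ← E.perm _ (hmP c hc)]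
    have h1 : ∀ v : V, l c • l c' • v = l c' • l c • v := by
      intro v
      have e1 := E.hα c d (hcd c hc) _ (hl c hc) v
      have e2 := E.hα c' d (hcd c' hc') _ (hl c' hc') v
      have k1 : α v c • z c + α v d • z d ∈ LL z :=
        add_mem (Submodule.smul_mem _ _ (z_mem c)) (Submodule.smul_mem _ _ (z_mem d))
      have k2 : α v c' • z c' + α v d • z d ∈ LL z :=
        add_mem (Submodule.smul_mem _ _ (z_mem c')) (Submodule.smul_mem _ _ (z_mem d))
      have e3 := E.lam_L (hl c hc) k2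
      have e4 := E.lam_L (hl c' hc') k1
      generalize α v c • z c + α v d • z d = k₁ at *
      generalize α v c' • z c' + α v d • z d = k₂ at *
      rw [e1, e2, smul_add, smul_add, e1, e2, e3, e4]
      abel
    show (g⁻¹ * l c * g) • (g⁻¹ * l c' * g) • z e = (g⁻¹ * l c' * g) • (g⁻¹ * l c * g) • z e
    simp only [mul_smul, smul_inv_smul]
    rw [h1]
  -- the pairs are disjoint
  have hdisj : ∀ c ∈ C, ∀ c' ∈ C, c ≠ c' → Disjoint ({a c, b c} : Finset ι) {a c', b c'} := by
    intro c hc c' hc' hcc'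
    rw [Finset.disjoint_left]
    intro e he he'
    simp only [Finset.mem_insert, Finset.mem_singleton] at he he'
    -- the partner of `e`
    have hx : ∀ t ∈ C, (e = a t ∨ e = b t) → σ (m t) e ≠ e ∧ g⁻¹ • z t = z e + z (σ (m t) e) := by
      intro t ht h1
      obtain ⟨h2, h3, -, -, h4⟩ := hab t ht
      rcases h1 with rfl | rfl
      · rw [h2]; exact ⟨Ne.symm h3, h4⟩
      · rw [hσb t ht]; exact ⟨h3, by rw [h4, add_comm]⟩
    obtain ⟨h1, h2⟩ := hx c hc he
    obtain ⟨h3, h4⟩ := hx c' hc' he'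
    have hxx : σ (m c) e ≠ σ (m c') e := by
      intro h5
      rw [h5, ← h4] at h2
      exact hcc' (E.z_inj (smul_left_cancel g⁻¹ h2))
    have hpair : ∀ t ∈ C, ∀ x, g⁻¹ • z t = z e + z (σ (m t) e) → σ (m t) e ≠ e → x ≠ e → x ≠ σ (m t) e →
        σ (m t) x = x := by
      intro t ht x h5 h6 h7 h8
      rcases hsw t ht x with h9 | ⟨-, -, h9⟩
      · exact h9
      · by_contra h10
        rw [h5] at h9
        rcases E.pair_eq (Ne.symm h6) h9 (Ne.symm h10) with ⟨h11, -⟩ | ⟨h11, -⟩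
        · exact h7 h11
        · exact h8 h11
    have h5 := hpair c hc (σ (m c') e) h2 h1 h3 (Ne.symm hxx)
    have h6 := hpair c' hc' (σ (m c) e) h4 h3 h1 hxx
    have h7 := hcomm c hc c' hc' e
    rw [h5, h6] at h7
    exact hxx h7.symm
  set T : Finset ι := C.biUnion (fun c => {a c, b c}) with hT
  have hsumT : ∀ f : ι → V, ∑ e ∈ T, f e = ∑ c ∈ C, (f (a c) + f (b c)) := by
    intro f
    rw [hT, Finset.sum_biUnion (fun c hc c' hc' h => hdisj c hc c' hc' h)]
    exact Finset.sum_congr rfl fun c hc => Finset.sum_pair (hab c hc).2.1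
  have hzo : ∑ c ∈ C, g⁻¹ • z c = z o := by
    rw [← Finset.smul_sum, ← hzeta, inv_smul_smul]
  have hTo : ∑ e ∈ T, z e = z o := by
    rw [hsumT, ← hzo]
    exact Finset.sum_congr rfl fun c hc => (hab c hc).2.2.2.2.symm
  have hoT : o ∉ T := by
    rw [hT, Finset.mem_biUnion]
    rintro ⟨c, hc, h1⟩
    simp only [Finset.mem_insert, Finset.mem_singleton] at h1
    rcases h1 with h1 | h1
    · exact (hab c hc).2.2.1 h1.symm
    · exact (hab c hc).2.2.2.1 h1.symm
  have hTu : insert o T = Finset.univ := by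
    rcases E.zind (insert o T) (by rw [Finset.sum_insert hoT, hTo, add_self]) with h1 | h1
    · exact absurd h1 (Finset.insert_ne_empty _ _)
    · exact h1
  have hcardT : T.card = 2 * C.card := by
    rw [hT, Finset.card_biUnion (fun c hc c' hc' h => hdisj c hc c' hc' h),
      Finset.sum_congr rfl fun c hc => Finset.card_pair (hab c hc).2.1, Finset.sum_const, smul_eq_mul, mul_comm]
  have hn : Fintype.card ι = 2 * C.card + 1 := by
    rw [← hcardT, ← Finset.card_insert_of_notMem hoT, hTu, Finset.card_univ]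
  -- `L ∩ gL = ⟨z c | c ∈ C⟩`
  have hint : ∀ u : V, u ∈ LL z → g⁻¹ • u ∈ LL z → ∃ D ⊆ C, u = ∑ c ∈ D, z c := by
    intro u hu hgu
    obtain ⟨f, hf, hfo⟩ : ∃ f : ι → ZMod 2, g⁻¹ • u = ∑ c, f c • z c ∧ f o = 0 := by
      obtain ⟨f, hf⟩ := E.exists_coef hgu
      rcases zm (f o) with h1 | h1
      · exact ⟨f, hf, h1⟩
      · refine ⟨fun c => f c + 1, ?_, by show f o + 1 = 0; rw [h1]; decide⟩
        simp only [add_smul, one_smul, Finset.sum_add_distrib]
        rw [E.zsum, add_zero, hf]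
    have hfab : ∀ c ∈ C, f (a c) = f (b c) := by
      intro c hc
      have h1 : m c • g⁻¹ • u = g⁻¹ • u := by
        show (g⁻¹ * l c * g) • g⁻¹ • u = _
        rw [mul_smul, mul_smul, smul_inv_smul, E.lam_L (hl c hc) hu]
      have h2 : ∑ e, (f e + f (Equiv.swap (a c) (b c) e)) • z e = 0 := by
        simp only [add_smul, Finset.sum_add_distrib]
        have h3 : ∑ e, f (Equiv.swap (a c) (b c) e) • z e = m c • g⁻¹ • u := by
          rw [hf, Finset.smul_sum]
          have h4 : ∀ e, m c • (f e • z e) = (fun e => f (Equiv.swap (a c) (b c) e) • z e) (Equiv.swap (a c) (b c) e) := by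
            intro e
            show _ = f (Equiv.swap (a c) (b c) (Equiv.swap (a c) (b c) e)) • z (Equiv.swap (a c) (b c) e)
            rw [Equiv.swap_apply_self, smul_zm, E.perm (m c) (hmP c hc), hσ c hc]
          rw [Finset.sum_congr rfl fun e _ => h4 e]
          exact (Equiv.sum_comp (Equiv.swap (a c) (b c)) (fun e => f (Equiv.swap (a c) (b c) e) • z e)).symm
        rw [h3, h1, hf, add_self]
      have h3 := E.const_of_sum h2 (a c) o
      obtain ⟨-, -, hao, hbo, -⟩ := hab c hc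
      rw [Equiv.swap_apply_left, Equiv.swap_apply_of_ne_of_ne (Ne.symm hao) (Ne.symm hbo), hfo, add_zero] at h3
      have := eq_neg_of_add_eq_zero_left h3
      rw [this]
      exact (by decide : ∀ t : ZMod 2, -t = t) _
    refine ⟨C.filter (fun c => f (a c) = 1), Finset.filter_subset _ _, ?_⟩
    have h1 : g⁻¹ • u = ∑ c ∈ C, f (a c) • (g⁻¹ • z c) := by
      rw [hf]
      have h2 : ∑ c, f c • z c = ∑ e ∈ T, f e • z e := by
        rw [← hTu, Finset.sum_insert hoT, hfo, zero_smul, zero_add]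
      rw [h2, hsumT]
      refine Finset.sum_congr rfl fun c hc => ?_
      rw [← hfab c hc, ← smul_add, (hab c hc).2.2.2.2]
    have h2 : u = ∑ c ∈ C, f (a c) • z c := by
      have h3 := congrArg (fun t => g • t) h1
      simp only [smul_inv_smul, Finset.smul_sum, smul_zm] at h3
      exact h3
    rw [Finset.sum_filter]
    refine h2.trans (Finset.sum_congr rfl fun c _ => ?_)
    rcases zm (f (a c)) with h3 | h3
    · rw [h3, zero_smul, if_neg (by decide)]
    · rw [h3, one_smul, if_pos rfl]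
  have hE : ∀ x ∈ EE, ∃ D ⊆ C, x = ∑ c ∈ D, z c := fun x hx => hint x (hEL hx) (hEL (hEg x hx))
  -- `C` is `S`-invariant
  have hCS : ∀ s ∈ S, ∀ c ∈ C, σ s c ∈ C := by
    intro s hs c hc
    obtain ⟨D, hD, h1⟩ := hE (s • g • z o) (hES s hs _ hEg')
    have h2 : s • g • z o = ∑ e ∈ C.map (σ s).toEmbedding, z e := by
      rw [hzeta, Finset.smul_sum, Finset.sum_map]
      exact Finset.sum_congr rfl fun e _ => E.perm s (E.SP hs) e
    rw [h1] at h2
    have h3 : σ s c ∈ C.map (σ s).toEmbedding := Finset.mem_map_of_mem _ hc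
    rcases E.sum_eq_iff h2 with h4 | h4
    · rw [← h4] at h3; exact hD h3
    · exfalso
      have h5 := congrArg Finset.card h4
      rw [Finset.card_compl, Finset.card_map] at h5
      have h6 := Finset.card_le_card hD
      omega
  -- `o ∈ C`
  have hoC : o ∈ C := by
    obtain ⟨D, hD, h1⟩ := hE (z o) hEo
    have h2 : ∑ c ∈ ({o} : Finset ι), z c = ∑ c ∈ D, z c := by rw [Finset.sum_singleton, h1]
    rcases E.sum_eq_iff h2 with h4 | h4
    · have : o ∈ ({o} : Finset ι) := Finset.mem_singleton_self o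
      rw [h4] at this
      exact hD this
    · exfalso
      have h5 := congrArg Finset.card h4
      rw [Finset.card_compl, Finset.card_singleton] at h5
      have h6 := Finset.card_le_card hD
      have h7 := E.card
      omega
  -- the end
  have h7 := E.card
  obtain ⟨c, hc, hco⟩ : ∃ c ∈ C, c ≠ o := by
    by_contra hcon
    push Not at hcon
    have : C ⊆ {o} := fun c hc => Finset.mem_singleton.2 (hcon c hc)
    have := Finset.card_le_card this
    rw [Finset.card_singleton] at this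
    omega
  apply hd
  rw [← hmemC]
  by_cases hdo : d = o
  · rw [hdo]; exact hoC
  · obtain ⟨s, hs, h8⟩ := E.trans c d hco hdo
    rw [← h8]
    exact hCS s hs c hc

/-- **(9) (be)** -/
theorem be_false {g : H} {v₀ : V} (hv : α v₀ = Pi.single o 1) (h1 : g • z o = v₀) (h2 : g • v₀ = z o)
    (hQ : ∀ s ∈ S, ∃ q ∈ S, (∀ l ∈ LL z, q • l = l) ∧ (s * q) • v₀ = v₀) : False := by
  have hfin := E.fin
  have hvL : v₀ ∉ LL z := by
    intro h
    rw [← E.ker, hv] at h
    have := congrFun h o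
    rw [Pi.single_eq_same] at this
    exact one_ne_zero this
  have hgi1 : g⁻¹ • z o = v₀ := by rw [← h2, inv_smul_smul]
  have hgi2 : g⁻¹ • v₀ = z o := by rw [← h1, inv_smul_smul]
  have hzo : g⁻¹ • z o ∉ LL z := by rwa [hgi1]
  -- elements fixing `v₀` normalise `gL`
  have hst : ∀ h : H, h • v₀ = v₀ → ∀ u : V, g⁻¹ • u ∈ LL z → g⁻¹ • h • u ∈ LL z := by
    intro h hh u hu
    exact E.st_conj (by rw [h1]; exact hh) hu
  -- `S` moves the `z c`, `c ≠ o`, inside `gL`
  have hmove : ∀ (y : V), y ∈ LL z → (∀ s ∈ S, s • y = y) → ∀ c d, c ≠ o → d ≠ o → g⁻¹ • (z c + y) ∈ LL z →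
      g⁻¹ • (z d + y) ∈ LL z := by
    intro y hyL hy c d hc hd h
    obtain ⟨s, hs, h3⟩ := E.trans c d hc hd
    obtain ⟨q, hq, h4, h5⟩ := hQ s hs
    have h6 := hst _ h5 _ h
    rwa [mul_smul, h4 _ (add_mem (z_mem c) hyL), smul_add, E.perm s (E.SP hs), h3, hy s hs] at h6
  have hlam : ∀ x y, x ≠ y → x ≠ o → y ≠ o → ∀ l ∈ Lam x y, l • v₀ = v₀ := by
    intro x y hxy hx hy l hl
    rw [E.hα x y hxy l hl, hv, Pi.single_eq_of_ne hx, Pi.single_eq_of_ne hy, zero_smul, zero_smul, add_zero,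
      add_zero]
  have hin : ∀ u : V, g⁻¹ • u ∈ LL z → ∀ x y, x ≠ y → x ≠ o → y ≠ o →
      g⁻¹ • (α u x • z x + α u y • z y) ∈ LL z := by
    intro u hu x y hxy hx hy
    obtain ⟨l, hl⟩ := E.lamNe x y hxy
    have h3 := inv_add (hst l (hlam x y hxy hx hy l hl) u hu) hu
    rw [E.hα x y hxy l hl u] at h3
    have : u + (α u x • z x + α u y • z y) + u = (u + u) + (α u x • z x + α u y • z y) := by abel
    rwa [this, add_self, zero_add] at h3
  -- no `u ∈ gL` has a letter `≠ o` in its support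
  have hsupp : ∀ u : V, g⁻¹ • u ∈ LL z → ∀ x, x ≠ o → α u x = 0 := by
    intro u hu x hx
    by_contra hcon
    have hx1 : α u x = 1 := (zm _).resolve_left hcon
    by_cases hall : ∀ y, y ≠ o → α u y = 1
    · -- all `z x + z y` in `gL`
      apply hzo
      rw [E.z_eq_sum' o (z x)]
      refine inv_sum fun e he => ?_
      have heo : e ≠ o := Finset.ne_of_mem_erase he
      by_cases hex : e = x
      · subst hex; rw [add_self, smul_zero]; exact zero_mem _
      · have h3 := hin u hu e x hex heo hx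
        rwa [hall e heo, hx1, one_smul, one_smul] at h3
    · push Not at hall
      obtain ⟨y, hy, hy1⟩ := hall
      have hy0 : α u y = 0 := (zm _).resolve_right hy1
      have hxy : x ≠ y := by rintro rfl; rw [hx1] at hy0; exact one_ne_zero hy0
      have h3 := hin u hu x y hxy hx hy
      rw [hx1, hy0, one_smul, zero_smul] at h3
      apply hzo
      rw [E.z_eq_sum o]
      refine inv_sum fun e he => ?_
      have := hmove 0 (zero_mem _) (fun s _ => smul_zero s) x e hx (Finset.ne_of_mem_erase he) h3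
      rwa [add_zero] at this
  -- `N = L + ⟨v₀⟩` is invariant under `g`
  have hN : ∀ u : V, u ∈ LL z → g • u ∈ LL z ∨ g • u + v₀ ∈ LL z := by
    intro u hu
    have hu' : g⁻¹ • g • u ∈ LL z := by rwa [inv_smul_smul]
    have h3 := hsupp (g • u) hu'
    rcases zm (α (g • u) o) with h4 | h4
    · left
      rw [← E.ker]
      funext c
      by_cases hc : c = o
      · rw [hc, h4]; rfl
      · rw [h3 c hc]; rfl
    · right
      rw [← E.ker, map_add, hv]
      funext c
      rw [Pi.add_apply]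
      by_cases hc : c = o
      · rw [hc, h4, Pi.single_eq_same]; rfl
      · rw [h3 c hc, Pi.single_eq_of_ne hc]; rfl
  -- so `x ∈ L` implies `x ∈ gL` or `x + z o ∈ gL`
  let NN : Set V := {u | u ∈ LL z ∨ u + v₀ ∈ LL z}
  have hNN : ∀ u : NN, g • (u : V) ∈ NN := by
    rintro ⟨u, hu | hu⟩
    · exact hN u hu
    · have h3 := hN _ hu
      show g • u ∈ LL z ∨ g • u + v₀ ∈ LL z
      rw [smul_add, h2] at h3
      rcases h3 with h3 | h3
      · left
        have := add_mem h3 (z_mem (z := z) o)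
        rwa [add_assoc, add_self, add_zero] at this
      · right
        have := add_mem h3 (z_mem (z := z) o)
        have e : g • u + z o + v₀ + z o = g • u + v₀ + (z o + z o) := by abel
        rwa [e, add_self, add_zero] at this
  let f : NN → NN := fun u => ⟨g • (u : V), hNN u⟩
  have hf : Function.Injective f := by
    intro a b hab
    exact Subtype.ext (smul_left_cancel g (congrArg Subtype.val hab))
  have hs := Finite.surjective_of_injective hf
  have hdich : ∀ x ∈ LL z, g⁻¹ • x ∈ LL z ∨ g⁻¹ • (x + z o) ∈ LL z := by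
    intro x hx
    obtain ⟨u, hu⟩ := hs ⟨x, Or.inl hx⟩
    have h3 : g • (u : V) = x := congrArg Subtype.val hu
    have h4 : g⁻¹ • x = (u : V) := by rw [← h3, inv_smul_smul]
    rcases u.2 with h5 | h5
    · left; rwa [h4]
    · right
      rwa [smul_add, h4, hgi1]
  obtain ⟨c, hc⟩ := E.exists_ne' o
  rcases hdich (z c) (z_mem c) with h3 | h3
  · apply hzo
    rw [E.z_eq_sum o]
    refine inv_sum fun e he => ?_
    have := hmove 0 (zero_mem _) (fun s _ => smul_zero s) c e hc.symm (Finset.ne_of_mem_erase he)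
      (by rwa [add_zero])
    rwa [add_zero] at this
  · apply hzo
    rw [E.z_eq_sum' o (z o)]
    refine inv_sum fun e he => ?_
    exact hmove (z o) (z_mem o) (fun s hs => by rw [E.perm s (E.SP hs), E.fixo s hs]) c e hc.symm
      (Finset.ne_of_mem_erase he) h3

end Ext

end Cfsg.Agent.Omega.NO3S.BetaFF.SymBad
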